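import Groth.Agent.H26PicSq.Square
import Groth.Agent.H28Pinch.EssSurj
import Groth.Agent.H28Pinch.FullyFaithful
import Groth.Agent.H28Pinch.DirectImageTrivial

/-!
# Modules on a union of two closed subschemes whose intersection has only constant functions
-/

set_option autoImplicit false
set_option linter.style.haveILetI false
set_option linter.unusedSectionVars false
set_option backward.isDefEq.respectTransparency false
set_option maxHeartbeats 800000
universe u

open CategoryTheory AlgebraicGeometry Limits TopologicalSpace Opposite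
open Groth.Agent Groth.Agent.H28Pinch

noncomputable section

namespace Groth.Agent.H26PicSq

variable {X B : Scheme.{u}} (π : X ⟶ B) (I J : X.IdealSheafData)

local notation "pb" => Scheme.Modules.pullback

/-- A module with the same restrictions as a module from the base comes from the base. -/
theorem nonempty_iso_of_restrictions (hIJ : I ⊓ J = ⊥)
    (hb : ∀ U : B.Opens, Function.Bijective (((I ⊔ J).subschemeι ≫ π).app U))
    (L : X.Modules) (hL : FlatMod.IsFinLocFree L) (N : B.Modules) (hN : FlatMod.IsFinLocFree N)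
    (hM : FlatMod.IsFinLocFree ((pb π).obj N))
    (a : (pb I.subschemeι).obj L ≅ (pb I.subschemeι).obj ((pb π).obj N))
    (b : (pb J.subschemeι).obj L ≅ (pb J.subschemeι).obj ((pb π).obj N)) :
    Nonempty (L ≅ (pb π).obj N) := by
  let M := (pb π).obj N
  let πW := (I ⊔ J).subschemeι ≫ π
  have hpo := isPushout_rs I J hIJ
  have hw := w I J
  have he : (jJ I J ≫ J.subschemeι) ≫ π = πW := by simp [πW]
  let G : B.Modules ⥤ (I ⊔ J).subscheme.Modules := pb π ⋙ pb J.subschemeι ⋙ pb (jJ I J)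
  let e : G ≅ pb πW :=
    Functor.isoWhiskerLeft (pb π) (Scheme.Modules.pullbackComp (jJ I J) J.subschemeι) ≪≫
      Scheme.Modules.pullbackComp (jJ I J ≫ J.subschemeι) π ≪≫ Scheme.Modules.pullbackCongr he
  let F := pb πW
  have hF := H28Pinch.bijective_pullback_map πW hb N N hN
  -- the discrepancy of the two isomorphisms on the intersection
  let d : G.obj N ≅ G.obj N :=
    (pb (jJ I J)).mapIso b.symm ≪≫ (xi hw L).symm ≪≫ (pb (jI I J)).mapIso a ≪≫ xi hw M
  let d' : F.obj N ≅ F.obj N := (e.app N).symm ≪≫ d ≪≫ e.app N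
  obtain ⟨θ, hθ⟩ := hF.2 d'.hom
  obtain ⟨θ', hθ'⟩ := hF.2 d'.inv
  change F.map θ = d'.hom at hθ
  change F.map θ' = d'.inv at hθ'
  let θi : N ≅ N := ⟨θ, θ', hF.1 (by
      show F.map _ = F.map _
      rw [F.map_comp, hθ, hθ', d'.hom_inv_id, F.map_id]), hF.1 (by
      show F.map _ = F.map _
      rw [F.map_comp, hθ, hθ', d'.inv_hom_id, F.map_id])⟩
  have hG : G.mapIso θi = d := Iso.ext (by
    have h1 := e.hom.naturality θ
    have h2 : F.map θ = e.inv.app N ≫ d.hom ≫ e.hom.app N := hθ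
    rw [h2] at h1
    rw [← cancel_mono (e.hom.app N)]
    exact h1.trans (by simp))
  let b' := b ≪≫ (pb J.subschemeι).mapIso ((pb π).mapIso θi)
  have hab : (pb (jI I J)).map a.hom ≫ (xi hw M).hom = (xi hw L).hom ≫ (pb (jJ I J)).map b'.hom := by
    have h3 : (pb (jJ I J)).map b'.hom = (pb (jJ I J)).map b.hom ≫ (G.mapIso θi).hom :=
      CategoryTheory.Functor.map_comp _ _ _
    rw [h3, hG]
    simp [d]
  have hba : (pb (jI I J)).map a.inv ≫ (xi hw L).hom = (xi hw M).hom ≫ (pb (jJ I J)).map b'.inv := by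
    rw [← cancel_mono ((pb (jJ I J)).map b'.hom), Category.assoc, Category.assoc, ← hab,
      Iso.map_inv_hom_id_assoc, Iso.map_inv_hom_id, Category.comp_id]
  obtain ⟨φ, hφ1, hφ2⟩ := exists_hom_of_pullbacks hw hpo L M hM a.hom b'.hom hab
  obtain ⟨ψ, hψ1, hψ2⟩ := exists_hom_of_pullbacks hw hpo M L hL a.inv b'.inv hba
  exact ⟨⟨φ, ψ, hom_ext_of_pullbacks hw hpo L L hL _ _
    (by rw [CategoryTheory.Functor.map_comp, hφ1, hψ1, a.hom_inv_id, CategoryTheory.Functor.map_id])
    (by rw [CategoryTheory.Functor.map_comp, hφ2, hψ2, b'.hom_inv_id, CategoryTheory.Functor.map_id]),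
    hom_ext_of_pullbacks hw hpo M M hM _ _
    (by rw [CategoryTheory.Functor.map_comp, hφ1, hψ1, a.inv_hom_id, CategoryTheory.Functor.map_id])
    (by rw [CategoryTheory.Functor.map_comp, hφ2, hψ2, b'.inv_hom_id, CategoryTheory.Functor.map_id])⟩⟩

theorem isFinLocFreeOfRank_one {Y : Scheme.{u}} {L : Y.Modules} (hL : PicF.IsInvertible L) :
    FlatMod.IsFinLocFreeOfRank 1 L := fun x =>
  let ⟨U, hxU, ⟨e⟩⟩ := hL x
  ⟨U, hxU, ⟨e ≪≫ (coproductUniqueIso fun _ : Fin 1 => Coh.structureModule (↑U)).symm⟩⟩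

theorem isInvertible_of_rank_one {Y : Scheme.{u}} {L : Y.Modules} (hL : FlatMod.IsFinLocFreeOfRank 1 L) :
    PicF.IsInvertible L := fun x =>
  let ⟨U, hxU, ⟨e⟩⟩ := hL x
  ⟨U, hxU, ⟨e ≪≫ coproductUniqueIso fun _ : Fin 1 => Coh.structureModule (↑U)⟩⟩

/-- Invertible modules agreeing on the intersection glue. -/
theorem exists_glued (hIJ : I ⊓ J = ⊥) {LY : I.subscheme.Modules} {LZ : J.subscheme.Modules}
    (hY : PicF.IsInvertible LY) (hZ : PicF.IsInvertible LZ)
    (σ : (pb (jI I J)).obj LY ≅ (pb (jJ I J)).obj LZ) :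
    ∃ M : X.Modules, PicF.IsInvertible M ∧ Nonempty ((pb I.subschemeι).obj M ≅ LY) ∧
      Nonempty ((pb J.subschemeι).obj M ≅ LZ) := by
  let U : X.Opens := ⟨(Set.range J.subschemeι.base)ᶜ, J.subschemeι.isClosedEmbedding.isClosed_range.isOpen_compl⟩
  haveI : IsClosedImmersion (jI I J) := by
    haveI : IsClosedImmersion (jI I J ≫ I.subschemeι) := by
      rw [Scheme.IdealSheafData.inclusion_subschemeι]; infer_instance
    exact IsClosedImmersion.of_comp _ I.subschemeι
  obtain ⟨M, eX, eZ, hM, -⟩ := exists_glued_module (w I J) σ (isPushout_rs I J hIJ) (isFinLocFreeOfRank_one hY)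
    (isFinLocFreeOfRank_one hZ) U rfl (isIso_restrict I J hIJ U rfl)
  exact ⟨M, isInvertible_of_rank_one hM, ⟨eX⟩, ⟨eZ⟩⟩

end Groth.Agent.H26PicSq
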