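import Groth.Agent.H17.PushoutSupInf
import Groth.Agent.H28Pinch.ToRinged
import Groth.Agent.LeadBC.GenBC.AppIso
import Groth.Agent.H12Pic.FibreConst
import Groth.Agent.H13Desc.Flat

/-!
# The union of two closed subschemes as a pinching, and the functions on their intersection
-/

set_option autoImplicit false
set_option linter.style.haveILetI false
set_option linter.unusedSectionVars false
set_option backward.isDefEq.respectTransparency false
set_option maxHeartbeats 800000
universe u

open CategoryTheory AlgebraicGeometry Limits TopologicalSpace Opposite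
open Groth.Agent Groth.Agent.H7Flat Groth.Agent.H28Pinch

noncomputable section

namespace Groth.Agent.H26PicSq

variable {X : Scheme.{u}} (I J : X.IdealSheafData)

/-- The inclusion of the intersection in the first subscheme. -/
abbrev jI : (I ⊔ J).subscheme ⟶ I.subscheme := Scheme.IdealSheafData.inclusion (le_sup_left : I ≤ I ⊔ J)

/-- The inclusion of the intersection in the second subscheme. -/
abbrev jJ : (I ⊔ J).subscheme ⟶ J.subscheme := Scheme.IdealSheafData.inclusion (le_sup_right : J ≤ I ⊔ J)

theorem w : jI I J ≫ I.subschemeι = jJ I J ≫ J.subschemeι := by simp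

/-- The chart of a closed subscheme over an affine open is cartesian. -/
theorem isPullback_cov (K : X.IdealSheafData) (U : X.affineOpens) :
    IsPullback (Spec.map (CommRingCat.ofHom (Ideal.Quotient.mk (K.ideal U)))) (K.subschemeCover.f U)
      U.2.fromSpec K.subschemeι := by
  have h : K.subschemeCover.f U ≫ K.subschemeι =
      Spec.map (CommRingCat.ofHom (Ideal.Quotient.mk (K.ideal U))) ≫ U.2.fromSpec := by
    rw [K.subschemeCover_map_subschemeι, Scheme.IdealSheafData.glueDataObjι_ι]
  haveI : IsOpenImmersion (K.subschemeCover.f U) := inferInstanceAs (IsOpenImmersion (K.subschemeCover.openCover.f U))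
  haveI : IsOpenImmersion U.2.fromSpec := inferInstance
  exact IsOpenImmersion.isPullback _ _ _ _ h (by
    rw [K.opensRange_subschemeCover_map U, IsAffineOpen.opensRange_fromSpec])

/-- The union of two closed subschemes is their pushout in ringed spaces. -/
theorem isPushout_rs (hIJ : I ⊓ J = ⊥) :
    IsPushout (toRS.map (jI I J)) (toRS.map (jJ I J)) (toRS.map I.subschemeι) (toRS.map J.subschemeι) := by
  refine H28Pinch.Chart.isPushout_rs (fun O r hr => ?_) (w I J)
  obtain ⟨U, hU, hrU, hUO⟩ := exists_isAffineOpen_mem_and_subset (U := O) (x := r) hr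
  let U' : X.affineOpens := ⟨U, hU⟩
  have h0 : I.ideal U' ⊓ J.ideal U' = ⊥ := by
    have := congrArg (fun K : X.IdealSheafData => K.ideal U') hIJ
    simpa [Scheme.IdealSheafData.ideal_inf, Scheme.IdealSheafData.ideal_bot] using this
  refine ⟨{
      R := Γ(X, U)
      A' := Γ(X, U) ⧸ I.ideal U'
      B := Γ(X, U) ⧸ J.ideal U'
      A := Γ(X, U) ⧸ (I ⊔ J).ideal U'
      pa := Ideal.Quotient.mk _
      pb := Ideal.Quotient.mk _
      p := Ideal.Quotient.factor ((le_sup_left : I ≤ I ⊔ J) U')
      q := Ideal.Quotient.factor ((le_sup_right : J ≤ I ⊔ J) U')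
      sq := ?_
      u := hU.fromSpec
      uX := I.subschemeCover.f U'
      uT := J.subschemeCover.f U'
      uZ := (I ⊔ J).subschemeCover.f U'
      pbX := isPullback_cov I U'
      pbT := isPullback_cov J U'
      hι := ((Scheme.IdealSheafData.subSchemeCover_map_inclusion (le_sup_left : I ≤ I ⊔ J) U')).symm
      hξ := ((Scheme.IdealSheafData.subSchemeCover_map_inclusion (le_sup_right : J ≤ I ⊔ J) U')).symm },
    hU.range_fromSpec.ge hrU, hU.range_fromSpec.le.trans hUO⟩
  have hsup : (I ⊔ J).ideal U' = I.ideal U' ⊔ J.ideal U' := by simp [Scheme.IdealSheafData.ideal_sup]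
  constructor
  · intro z; simp
  · exact Ideal.Quotient.factor_surjective _
  · intro z z' h h'
    rw [Ideal.Quotient.eq] at h h'
    have := h0.le (Submodule.mem_inf.2 ⟨h, h'⟩)
    exact sub_eq_zero.1 this
  · intro x y h
    obtain ⟨x, rfl⟩ := Ideal.Quotient.mk_surjective x
    obtain ⟨y, rfl⟩ := Ideal.Quotient.mk_surjective y
    rw [Ideal.Quotient.factor_mk, Ideal.Quotient.factor_mk, Ideal.Quotient.eq, hsup] at h
    obtain ⟨i, hi, j, hj, e⟩ := Submodule.mem_sup.1 h
    exact ⟨x - i, Ideal.Quotient.eq.2 (by simpa using hi),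
      Ideal.Quotient.eq.2 (by rw [show x - i - y = j by linear_combination -e]; exact hj)⟩

/-- The first subscheme is an open subscheme away from the second. -/
theorem isIso_restrict (hIJ : I ⊓ J = ⊥) (U : X.Opens) (hU : (U : Set X) = (Set.range J.subschemeι.base)ᶜ) :
    IsIso (I.subschemeι ∣_ U) := by
  haveI : IsClosedImmersion (I.subschemeι ∣_ U) :=
    (IsZariskiLocalAtTarget.restrict (P := @IsClosedImmersion) inferInstance U)
  have hbot : ∀ V : X.affineOpens, (V.1 : Set X) ⊆ U → I.ideal V = ⊥ := fun V hV => by
    have hJ : J.ideal V = ⊤ := by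
      rw [← Ideal.Quotient.subsingleton_iff]
      haveI : IsEmpty (PrimeSpectrum (Γ(X, V.1) ⧸ J.ideal V)) := ⟨fun z => by
        have h1 : J.subschemeι (J.subschemeCover.f V z) ∈ (V.1 : Set X) := by
          have h2 : J.subschemeCover.f V z ∈ (J.subschemeCover.f V).opensRange := ⟨z, rfl⟩
          rwa [J.opensRange_subschemeCover_map V] at h2
        have h3 := hV h1
        rw [hU] at h3
        exact h3 ⟨_, rfl⟩⟩
      exact not_nontrivial_iff_subsingleton.1 fun _ =>
        IsEmpty.false (Classical.arbitrary (PrimeSpectrum (Γ(X, V.1) ⧸ J.ideal V)))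
    have h := congrArg (fun K : X.IdealSheafData => K.ideal V) hIJ
    simpa [Scheme.IdealSheafData.ideal_inf, Scheme.IdealSheafData.ideal_bot, hJ] using h
  rw [IsClosedImmersion.isIso_iff_ker_eq_bot]
  refine Scheme.IdealSheafData.ext (funext fun V => ?_)
  rw [Scheme.ker_morphismRestrict_ideal, Scheme.IdealSheafData.ker_subschemeι,
    hbot _ (fun x hx => by obtain ⟨y, -, rfl⟩ := hx; exact y.2)]
  simp [Scheme.IdealSheafData.ideal_bot]

variable {B : Scheme.{u}} (π : X ⟶ B)

/-- Geometric fibres at algebraically closed points control all geometric fibres. -/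
theorem geometric_of_algClosed {Y : Scheme.{u}} (f : Y ⟶ B)
    (hfib : ∀ (K : Type u) [Field K] [IsAlgClosed K] (g : Spec (CommRingCat.of K) ⟶ B),
      IsReduced (pullback f g) ∧ ConnectedSpace ↥(pullback f g)) :
    GeometricallyReduced f ∧ GeometricallyConnected f := by
  have key : ∀ (K : Type u) [Field K] (y : Spec (CommRingCat.of K) ⟶ B),
      IsReduced (pullback f y) ∧ ConnectedSpace ↥(pullback f y) := fun K _ y => by
    let σ := Spec.map (CommRingCat.ofHom (algebraMap K (AlgebraicClosure K)))
    haveI : Surjective σ := ⟨fun z => ⟨IsLocalRing.closedPoint (AlgebraicClosure K),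
      Subsingleton.elim (α := PrimeSpectrum K) _ _⟩⟩
    haveI : Flat σ := Flat.SpecMap_iff.2 (RingHom.flat_algebraMap_iff.2 inferInstance)
    obtain ⟨h1, h2⟩ := hfib (AlgebraicClosure K) (σ ≫ y)
    let e := pullbackLeftPullbackSndIso f y σ
    haveI : IsReduced (pullback (pullback.snd f y) σ) := isReduced_of_isOpenImmersion e.hom
    haveI : ConnectedSpace ↥(pullback (pullback.snd f y) σ) := e.hom.homeomorph.connectedSpace_iff.2 h2
    let q := pullback.fst (pullback.snd f y) σ
    haveI : Flat q := MorphismProperty.pullback_fst _ _ inferInstance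
    haveI : Surjective q := MorphismProperty.pullback_fst _ _ inferInstance
    exact ⟨H13Desc.isReduced_of_flat_surjective q, q.surjective.connectedSpace q.continuous⟩
  constructor
  · rw [GeometricallyReduced.eq_geometrically]
    intro K _ y Z fst snd h
    haveI := (key K y).1
    exact isReduced_of_isOpenImmersion h.isoPullback.hom
  · rw [GeometricallyConnected.eq_geometrically]
    intro K _ y Z fst snd h
    exact h.isoPullback.hom.homeomorph.connectedSpace_iff.2 (key K y).2

/-- The functions on a proper flat family with reduced connected geometric fibres come from the base. -/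
theorem bijective_app {Y : Scheme.{u}} (f : Y ⟶ B) [IsProper f] [Flat f] [LocallyOfFinitePresentation f]
    (hfib : ∀ (K : Type u) [Field K] [IsAlgClosed K] (g : Spec (CommRingCat.of K) ⟶ B),
      IsReduced (pullback f g) ∧ ConnectedSpace ↥(pullback f g)) (U : B.Opens) :
    Function.Bijective (f.app U) := by
  obtain ⟨h1, h2⟩ := geometric_of_algClosed f hfib
  haveI := LeadBC.GenBC.isIso_app_of_fibres f (H12Pic.isIso_appTop_fiber_of_geomConnected_geomReduced f) U
  exact ConcreteCategory.bijective_of_isIso (f.app U)

end Groth.Agent.H26PicSq
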